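import Cfsg.Agent.H826.Rg.AlphaPlus
import Cfsg.Agent.H964.Rg.Res

/-!
# S3691: the residual cases with the stabiliser of a nonsingular vector, matrix form (helper826)

`ResV hI X v`, `Fac T X Y`, `T ≃* PΩ(Q)`, dimension `≥ 7`:
* `mem_preE_iff` : `glEquiv g ∈ preE (eP hG eT) X ↔ g ∈ preG eT X`
* `stab_le` : `preG eT X` contains the whole stabiliser of `v` in `Ω(Q)`
* `semiregG` : `preG eT Y` is semiregular on the vectors `u`, `Q u = Q v`
* `card_dvd_norm` : so its order divides the number of these vectors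
* `exists_semi` : `Y` is transitive on these vectors, up to scalars
-/

set_option autoImplicit false
set_option linter.unusedSectionVars false

namespace Cfsg.Agent.H826.Rg

open QuadraticMap Module Cfsg Cfsg.Geo
open Cfsg.Agent.LieClassical.OrthCore Cfsg.Agent.LieClassical.OrthTrans
open Cfsg.Agent.ClassicalGeometry.OrthSemi Cfsg.Agent.H454.Reg Cfsg.Agent.H449.Reg Cfsg.Agent.H884.El
open Cfsg.Agent.H964.Rg (ResV)
open Cfsg.Agent.AutOrth.Main (oe pe oe_apply pe_mk)
open Cfsg.Agent.LieClassical.OrthFinite (glEquiv)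
open scoped MatrixGroups Matrix

universe u v

variable {ι : Type} [Fintype ι] [DecidableEq ι] {F : Type v} [Field F] {Q : QuadraticForm F (ι → F)}
  {G : Type u} [Group G] {T : Subgroup G} [T.Normal] {hG : Good Q} {eT : T ≃* POmega F (⇑Q)} {X Y : Subgroup G}

theorem glEquiv_oe (x : Omega F (⇑Q)) :
    glEquiv ι F ((x : isometryGroup F (⇑Q)) : GL ι F) = (oe hG x : (ι → F) ≃ₗ[F] (ι → F)) := by
  ext1 v
  rw [oe_apply]
  rfl

theorem eP_symm_mk (x : Omega F (⇑Q)) :
    (eP hG eT).symm (QuotientGroup.mk (oe hG x)) = eT.symm (QuotientGroup.mk x) := by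
  rw [MulEquiv.symm_apply_eq]
  show _ = pe hG (eT (eT.symm _))
  rw [eT.apply_symm_apply, pe_mk]

theorem mem_preE_iff {g : GL ι F} : glEquiv ι F g ∈ preE (eP hG eT) X ↔ g ∈ preG eT X := by
  constructor
  · rintro ⟨hg, h⟩
    obtain ⟨x, hx⟩ := (oe hG).surjective ⟨glEquiv ι F g, hg⟩
    have h1 : ((x : isometryGroup F (⇑Q)) : GL ι F) = g := by
      apply (glEquiv ι F).injective
      rw [glEquiv_oe (hG := hG), hx]
    rw [← h1, mem_preG, ← eP_symm_mk (hG := hG), hx]
    exact h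
  · intro h
    obtain ⟨x, rfl, hx⟩ := exists_of_mem_preG h
    have h1 : glEquiv ι F ((x : isometryGroup F (⇑Q)) : GL ι F) ∈ E Q := by
      rw [glEquiv_oe (hG := hG)]
      exact (oe hG x).2
    refine ⟨h1, ?_⟩
    have h2 : (⟨_, h1⟩ : ↥(E Q)) = oe hG x := Subtype.ext (glEquiv_oe x)
    rw [h2, eP_symm_mk]
    exact hx

theorem mem_preE_iff' {g : (ι → F) ≃ₗ[F] (ι → F)} : g ∈ preE (eP hG eT) X ↔ (glEquiv ι F).symm g ∈ preG eT X := by
  rw [← mem_preE_iff (hG := hG), MulEquiv.apply_symm_apply]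

theorem map_preG : (preG eT X).map (glEquiv ι F).toMonoidHom = preE (eP hG eT) X := by
  ext g
  rw [mem_preE_iff']
  constructor
  · rintro ⟨x, hx, rfl⟩
    show (glEquiv ι F).symm (glEquiv ι F x) ∈ _
    rw [MulEquiv.symm_apply_apply]
    exact hx
  · intro h
    exact ⟨_, h, (glEquiv ι F).apply_symm_apply g⟩

theorem card_preE : Nat.card (preE (eP hG eT) X) = Nat.card (preG eT X) := by
  rw [← map_preG]
  exact Nat.card_congr ((preG eT X).equivMapOfInjective _ (glEquiv ι F).injective).symm.toEquiv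

variable {hI : Ind (eP hG eT)} {v : ι → F}

theorem sg_le_preE (hR : ResV hI X v) : Sg Q v ≤ preE (eP hG eT) X :=
  Sg_le fun u w hu hw huv hwv => mem_preE_iff'.2 (hR.sieg u w hu hw huv hwv)

/-- **the whole stabiliser** of `v` in `Ω(Q)` is contained in `preG eT X` -/
theorem stab_le [Finite F] (hn : 7 ≤ Fintype.card ι) (hR : ResV hI X v) {g : GL ι F} (hg : g ∈ omegaGL (⇑Q))
    (hgv : (g : Matrix ι ι F) *ᵥ v = v) : g ∈ preG eT X := by
  rw [← mem_preE_iff (hG := hG)]
  apply sg_le_preE hR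
  refine mem_Sg_of_fix hG.nondeg (by rwa [Module.finrank_fintype_fun_eq_card]) hR.ne ?_ hgv
  obtain ⟨x, hx, rfl⟩ := hg
  have h1 := (oe hG ⟨x, hx⟩).2
  rwa [← glEquiv_oe (hG := hG) ⟨x, hx⟩] at h1

variable [Finite F] [Finite G]

/-- **semiregularity** -/
theorem semiregG (hn : 7 ≤ Fintype.card ι) (hf : Fac T X Y) (hR : ResV hI X v) {g : GL ι F} (hg : g ∈ preG eT Y)
    {u : ι → F} (hu : Q u = Q v) (hgu : (g : Matrix ι ι F) *ᵥ u = u) : g = 1 := by
  have h1 := semireg hG (by rwa [Module.finrank_fintype_fun_eq_card]) hf hR.ne (sg_le_preE hR) (mem_preE_iff.2 hg) hu hgu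
  exact (map_eq_one_iff _ (glEquiv ι F).injective).1 h1

/-- the group `preG eT Y` acts semiregularly on the vectors of norm `Q v` : its order divides their number -/
theorem card_dvd_norm (hn : 7 ≤ Fintype.card ι) (hf : Fac T X Y) (hR : ResV hI X v) :
    Nat.card (preG eT Y) ∣ Nat.card {u : ι → F // Q u = Q v} := by
  let _ : MulAction (preG eT Y) {u : ι → F // Q u = Q v} :=
    { smul := fun g u => ⟨glEquiv ι F g.1 u.1, by
        rw [preE_le_O (e := eP hG eT) (mem_preE_iff.2 g.2)]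
        exact u.2⟩
      one_smul := fun u => by
        apply Subtype.ext
        show glEquiv ι F 1 u.1 = u.1
        rw [map_one]
        rfl
      mul_smul := fun a b u => by
        apply Subtype.ext
        show glEquiv ι F (a.1 * b.1) u.1 = glEquiv ι F a.1 (glEquiv ι F b.1 u.1)
        rw [map_mul]
        rfl }
  have hst : ∀ u : {u : ι → F // Q u = Q v}, MulAction.stabilizer (preG eT Y) u = ⊥ := by
    intro u
    rw [eq_bot_iff]
    intro g hg
    rw [MulAction.mem_stabilizer_iff] at hg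
    rw [Subgroup.mem_bot]
    exact Subtype.ext (semiregG hn hf hR g.2 u.2 (congrArg Subtype.val hg))
  have h1 := MulAction.selfEquivSigmaOrbitsQuotientStabilizer (preG eT Y) {u : ι → F // Q u = Q v}
  have h2 := Nat.card_congr h1
  have := Fintype.ofFinite (Quotient (MulAction.orbitRel (preG eT Y) {u : ι → F // Q u = Q v}))
  rw [h2, Nat.card_sigma]
  refine Finset.dvd_sum fun ω _ => ?_
  rw [hst, Nat.card_congr (QuotientGroup.quotientBot (G := preG eT Y)).toEquiv]

/-! ### the case D+1, (alpha) -/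

theorem gd (hf : Fac T X Y) (hR : ResV hI X v) : GD Q (preE (eP hG eT) Y) (Q v) (Gh (eP hG eT) Y) where
  good := hG
  leE := preE_le_E
  mem := lg_mem_iff hf.cent
  trans := fun _ _ hu hu' => exists_gh hG hI hf hR.ne hR.fix hu hu'

theorem ld (hn : 7 ≤ Fintype.card ι) (hf : Fac T X Y) (hR : ResV hI X v) {p f m r : ℕ} (hp : p.Prime) (hF : Nat.card F = p ^ f)
    (hι : Fintype.card ι = 2 * m) (hr : r.Prime) (hord : orderOf (p : ZMod r) = f * m)
    (hrY : r ∣ Nat.card (preG eT Y)) : LD Q (preE (eP hG eT) Y) p f m r (Q v) where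
  nd := hG.nondeg
  prime := hp
  cardF := hF
  dim := by rw [Module.finrank_fintype_fun_eq_card, hι]
  hm := by omega
  le := preE_le_O
  hc := hR.ne
  free := fun g hg u hu hgu => semireg hG (by rwa [Module.finrank_fintype_fun_eq_card]) hf hR.ne (sg_le_preE hR) hg hu hgu
  rprime := hr
  ord := hord
  rD := by rwa [card_preE]

/-- **F-D+1, (alpha)** : no normal `p`-subgroup `≠ 1` in the preimage of `Y ∩ T` -/
theorem alpha_plus (hMain : H667.HerFin.Main.{v}) (hf : Fac T X Y) (hR : ResV hI X v) {p f m r : ℕ} (hp : p.Prime)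
    (hF : Nat.card F = p ^ f) (hι : Fintype.card ι = 2 * m) (hm : 4 ≤ m) (hbig : 2 ^ 50 ≤ p ^ (f * m)) (hr : r.Prime)
    (hord : orderOf (p : ZMod r) = f * m) (hrY : r ∣ Nat.card (preG eT Y)) {N : Subgroup (GL ι F)} (hN : N ≤ preG eT Y)
    (hNn : ∀ g ∈ preG eT Y, ∀ n ∈ N, g * n * g⁻¹ ∈ N) (hNp : IsPGroup p N) : N = ⊥ := by
  by_contra hne
  refine false_of_np hMain (ld (by omega) hf hR hp hF hι hr hord hrY) hm (gd hf hR) hbig
    (N := N.map (glEquiv ι F).toMonoidHom) ⟨?_, ?_, hNp.map _, ?_⟩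
  · rw [← map_preG]
    exact Subgroup.map_mono hN
  · rintro g hg _ ⟨n, hn, rfl⟩
    refine ⟨(glEquiv ι F).symm g * n * ((glEquiv ι F).symm g)⁻¹, hNn _ (mem_preE_iff'.1 hg) n hn, ?_⟩
    show glEquiv ι F ((glEquiv ι F).symm g * n * ((glEquiv ι F).symm g)⁻¹) = g * glEquiv ι F n * g⁻¹
    rw [map_mul, map_mul, map_inv, MulEquiv.apply_symm_apply]
  · intro h1
    apply hne
    rwa [Subgroup.map_eq_bot_iff_of_injective _ (glEquiv ι F).injective] at h1

end Cfsg.Agent.H826.Rg
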