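import Cfsg.Agent.H826.Rg.Bridge
import Cfsg.Agent.H898.Rg.FBlin
import Cfsg.Agent.H997.Rg.Lin

/-!
# S3691: semiregular subgroups of `Ω(Q)`, even dimension: no fixed vectors for elements of prime order `≠ p` (helper826)

* `fixbot_of_free` : `k ∈ E Q` of prime order `≠ p` without fixed vectors of norm `c ≠ 0` has no nonzero fixed vector (both types)
* `repG eT Y` : `preG eT Y → End F (ι → F)`; `fpfG` : `Fpf p (repG eT Y)` in the residual cases F-D-, F-D+1
-/

set_option autoImplicit false
set_option linter.unusedSectionVars false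

namespace Cfsg.Agent.H826.Rg

open QuadraticMap Module Cfsg Cfsg.Geo
open Cfsg.Agent.LieClassical.OrthCore Cfsg.Agent.LieClassical.OrthTrans
open Cfsg.Agent.ClassicalGeometry.OrthSemi Cfsg.Agent.H454.Reg Cfsg.Agent.H449.Reg Cfsg.Agent.H884.El Cfsg.Agent.H883.Sub
open Cfsg.Agent.H890.SpParity (fix mem_fix even_E)
open Cfsg.Agent.H445.AH (exists_value_mem)
open Cfsg.Agent.H964.Rg (ResV)
open Cfsg.Agent.H997.Rg (Fpf)
open Cfsg.Agent.LieClassical.OrthFinite (glEquiv)
open scoped MatrixGroups Matrix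

universe u v

theorem fixbot_of_free {F V : Type*} [Field F] [AddCommGroup V] [Module F V] {Q : QuadraticForm F V} [Finite F]
    [FiniteDimensional F V] {p : ℕ} [hch : CharP F p] (hp : p.Prime) (hQ : Nondeg Q) (hd : Even (finrank F V)) {c : F} (hc : c ≠ 0)
    {k : V ≃ₗ[F] V} (hk : k ∈ E Q) (hs : (orderOf k).Prime) (hsp : orderOf k ≠ p) (hfree : ∀ u, Q u = c → k u ≠ u) :
    fix k = ⊥ := by
  have h1 := H898.Rg.fix_inf_perp hQ (E_le_O hk) (pow_orderOf_eq_one k) (by
    intro h0
    exact hsp ((Nat.prime_dvd_prime_iff_eq hp hs).1 ((CharP.cast_eq_zero_iff F p _).1 h0)).symm)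
  have h2 : finrank F (fix k) ≤ finrank F ↥(fix k ⊓ perp Q (fix k)) + 1 := by
    by_contra hcon
    obtain ⟨y, hy, hyv⟩ := exists_value_mem (Q := Q) (Y := fix k) (by omega) c hc
    exact hfree y hyv (mem_fix.1 hy)
  rw [h1, finrank_bot] at h2
  have h3 := even_E hQ hk
  rw [Nat.even_iff] at h3 hd
  exact Submodule.finrank_eq_zero.1 (by omega)

variable {ι : Type} [Fintype ι] [DecidableEq ι] {F : Type v} [Field F] {Q : QuadraticForm F (ι → F)}
  {G : Type u} [Group G] {T : Subgroup G} [T.Normal] {hG : Good Q} {eT : T ≃* POmega F (⇑Q)} {X Y : Subgroup G}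
  {hI : Ind (eP hG eT)} {v : ι → F}

/-- the natural representation of `preG eT Y` -/
noncomputable def repG (eT : T ≃* POmega F (⇑Q)) (Y : Subgroup G) : preG eT Y →* Module.End F (ι → F) :=
  (LinearEquiv.automorphismGroup.toLinearMapMonoidHom).comp ((glEquiv ι F).toMonoidHom.comp (preG eT Y).subtype)

theorem repG_apply (k : preG eT Y) (w : ι → F) : repG eT Y k w = ((k : GL ι F) : Matrix ι ι F) *ᵥ w := rfl

theorem repG_injective : Function.Injective (repG eT Y) := by
  intro a b h
  apply Subtype.ext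
  apply (glEquiv ι F).injective
  ext1 w
  exact congrArg (fun z : Module.End F (ι → F) => z w) h

/-- **elements of prime order `≠ p` of `preG eT Y` have no nonzero fixed vector** (F-D-, F-D+1) -/
theorem fpfG [Finite F] [Finite G] {p : ℕ} [CharP F p] (hp : p.Prime) (hn : 7 ≤ Fintype.card ι) (he : Even (Fintype.card ι))
    (hf : Fac T X Y) (hR : ResV hI X v) : Fpf p (repG eT Y) := by
  intro g hg hgp w hw
  have h1 : orderOf (glEquiv ι F g.1) = orderOf g := by
    rw [MulEquiv.orderOf_eq, Subgroup.orderOf_coe]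
  have h0 : glEquiv ι F g.1 ∈ preE (eP hG eT) Y := mem_preE_iff.2 g.2
  have h2 := fixbot_of_free (k := glEquiv ι F g.1) hp hG.nondeg (by rwa [Module.finrank_fintype_fun_eq_card]) hR.ne
    (preE_le_E h0) (by rwa [h1]) (by rwa [h1]) (by
      intro u hu hgu
      have h3 := semiregG hn hf hR g.2 hu hgu
      have h4 : g = 1 := Subtype.ext h3
      rw [h4, orderOf_one] at hg
      exact Nat.not_prime_one hg)
  have h3 : w ∈ fix (glEquiv ι F g.1) := mem_fix.2 hw
  rwa [h2, Submodule.mem_bot] at h3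

end Cfsg.Agent.H826.Rg
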