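import Cfsg.Agent.H826.Rg.NoAlpha

/-!
# S3691: F-D+1, `K = H`, version without `Ind` (helper826)

`no_alpha_free` : `Ex T H B`, `T ≃* PΩ(Q)` (no hypothesis on the automorphisms induced by `G`), `preG eT H` semiregular on the vectors of norm
`c ≠ 0`: it has no normal `p`-subgroup `≠ 1`.
-/

set_option autoImplicit false
set_option linter.unusedSectionVars false

namespace Cfsg.Agent.H826.Rg

open QuadraticMap Module Cfsg Cfsg.Geo
open Cfsg.Agent.LieClassical.OrthCore Cfsg.Agent.LieClassical.OrthTrans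
open Cfsg.Agent.ClassicalGeometry.OrthSemi Cfsg.Agent.H454.Reg Cfsg.Agent.H449.Reg Cfsg.Agent.H884.El
open Cfsg.Agent.LieClassical.OrthFinite (glEquiv)
open scoped MatrixGroups Matrix

universe u v

/-- lifting a normal `p`-subgroup through a central extension -/
theorem exists_lift {D H : Type*} [Group D] [Finite D] [Group H] {p : ℕ} [Fact p.Prime] (π : D →* H)
    (hπ : π.ker ≤ Subgroup.center D) {P : Subgroup H} (hP : IsPGroup p P) (hPr : P ≤ π.range)
    (hPn : ∀ d : D, ∀ y ∈ P, π d * y * (π d)⁻¹ ∈ P) : ∃ N : Subgroup D, N.Normal ∧ IsPGroup p N ∧ N.map π = P := by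
  have hn : (P.comap π).Normal := by
    refine ⟨fun y hy d => ?_⟩
    rw [Subgroup.mem_comap] at hy ⊢
    rw [map_mul, map_mul, map_inv]
    exact hPn d _ hy
  have hPf : Finite P := by
    have h1 : Finite π.range := Finite.of_surjective π.rangeRestrict π.rangeRestrict_surjective
    exact Finite.of_injective (Subgroup.inclusion hPr) (Subgroup.inclusion_injective hPr)
  have hnil : Group.IsNilpotent P := hP.isNilpotent
  have hnil2 : Group.IsNilpotent (P.comap π) := by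
    refine Subgroup.isNilpotent_of_ker_le_center (π.subgroupComap P) ?_
    intro x hx
    rw [Subgroup.mem_center_iff]
    intro y
    apply Subtype.ext
    have h1 : (x : D) ∈ π.ker := by
      rw [MonoidHom.mem_ker] at hx ⊢
      exact congrArg Subtype.val hx
    exact Subgroup.mem_center_iff.1 (hπ h1) y
  obtain ⟨S⟩ : Nonempty (Sylow p (P.comap π)) := inferInstance
  have hSn : (S : Subgroup (P.comap π)).Normal := inferInstance
  have hSc : (S : Subgroup (P.comap π)).Characteristic := S.characteristic_of_normal hSn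
  refine ⟨(S : Subgroup (P.comap π)).map (P.comap π).subtype, inferInstance, S.2.map _, ?_⟩
  apply le_antisymm
  · rintro _ ⟨_, ⟨s, hs, rfl⟩, rfl⟩
    exact s.2
  · intro x hx
    obtain ⟨d, rfl⟩ := hPr hx
    obtain ⟨k, hk⟩ := hP ⟨π d, hx⟩
    have hk' : (π d) ^ p ^ k = 1 := congrArg Subtype.val hk
    have hnd : ¬ p ∣ (S : Subgroup (P.comap π)).index := S.not_dvd_index
    have hcop : Nat.Coprime (S : Subgroup (P.comap π)).index (p ^ k) :=
      Nat.Coprime.pow_right _ ((Nat.Prime.coprime_iff_not_dvd Fact.out).2 hnd).symm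
    have h1 := (S : Subgroup (P.comap π)).pow_index_mem ⟨d, hx⟩
    set n := (S : Subgroup (P.comap π)).index with hn'
    have h2 : π d ^ n ∈ ((S : Subgroup (P.comap π)).map (P.comap π).subtype).map π := by
      refine ⟨d ^ n, ⟨_, h1, rfl⟩, ?_⟩
      rw [map_pow]
    have h3 : orderOf (π d) ∣ p ^ k := orderOf_dvd_of_pow_eq_one hk'
    have h4 : π d ∈ Subgroup.zpowers (π d ^ n) := mem_zpowers_pow_iff.2 (hcop.coprime_dvd_right h3)
    obtain ⟨j, hj⟩ := Subgroup.mem_zpowers_iff.1 h4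
    rw [← hj]
    exact Subgroup.zpow_mem _ h2 j

section abs

variable {G : Type u} [Group G] {T : Subgroup G} [T.Normal]
variable {F V : Type*} [Field F] [AddCommGroup V] [Module F V] {Q : QuadraticForm F V}

/-- the map from the preimage -/
def piE (e : T ≃* (↥(E Q) ⧸ Subgroup.center ↥(E Q))) (X : Subgroup G) : ↥(preE e X) →* G where
  toFun d := ((e.symm (QuotientGroup.mk ⟨d.1, d.2.1⟩) : T) : G)
  map_one' := by
    have h1 : (⟨((1 : ↥(preE e X)) : V ≃ₗ[F] V), (1 : ↥(preE e X)).2.1⟩ : ↥(E Q)) = 1 := rfl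
    rw [h1, QuotientGroup.mk_one, map_one]
    rfl
  map_mul' a b := by
    have h1 : (⟨((a * b : ↥(preE e X)) : V ≃ₗ[F] V), (a * b : ↥(preE e X)).2.1⟩ : ↥(E Q)) =
      ⟨a.1, a.2.1⟩ * ⟨b.1, b.2.1⟩ := rfl
    rw [h1, QuotientGroup.mk_mul, map_mul]
    rfl

variable {e : T ≃* (↥(E Q) ⧸ Subgroup.center ↥(E Q))} {X H : Subgroup G}

theorem piE_apply (d : ↥(preE e X)) : piE e X d = ((e.symm (QuotientGroup.mk ⟨d.1, d.2.1⟩) : T) : G) := rfl

theorem piE_mem (d : ↥(preE e X)) : piE e X d ∈ X ⊓ T := ⟨d.2.2, (e.symm (QuotientGroup.mk ⟨d.1, d.2.1⟩) : T).2⟩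

theorem exists_piE {x : G} (hx : x ∈ X ⊓ T) : ∃ d : ↥(preE e X), piE e X d = x := by
  obtain ⟨g, hg⟩ := QuotientGroup.mk_surjective (e ⟨x, hx.2⟩)
  have h1 : e.symm (QuotientGroup.mk ⟨g.1, g.2⟩) = ⟨x, hx.2⟩ := by
    rw [MulEquiv.symm_apply_eq]
    exact hg
  refine ⟨⟨g.1, g.2, ?_⟩, ?_⟩
  · rw [h1]
    exact hx.1
  · rw [piE_apply]
    exact congrArg Subtype.val h1

theorem central_of_piE {d : ↥(preE e X)} (hd : piE e X d = 1) : (⟨d.1, d.2.1⟩ : ↥(E Q)) ∈ Subgroup.center ↥(E Q) := by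
  rw [piE_apply] at hd
  have h1 : e.symm (QuotientGroup.mk ⟨d.1, d.2.1⟩) = 1 := Subtype.ext hd
  rw [MulEquiv.symm_apply_eq, map_one, QuotientGroup.eq_one_iff] at h1
  exact h1

theorem ker_piE_le : (piE e X).ker ≤ Subgroup.center ↥(preE e X) := by
  intro d hd
  have h1 := central_of_piE ((MonoidHom.mem_ker).1 hd)
  rw [Subgroup.mem_center_iff] at h1 ⊢
  intro g
  have h2 := h1 ⟨g.1, g.2.1⟩
  have h3 : g.1 * d.1 = d.1 * g.1 := congrArg Subtype.val h2
  exact Subtype.ext h3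

variable [Finite F] [FiniteDimensional F V] {p f m r : ℕ} {c : F} {N : Subgroup (V ≃ₗ[F] V)}

open LD (AA mem_AA)

theorem no_alpha_abs (hG : Good Q) (hmax : IsCoatom H) (hT : IsSimpleGroup T) (hnl : ¬ T ≤ H)
    (h : LD Q (preE e H) p f m r c) (hN : NP (preE e H) p N) : False := by
  have := Fact.mk h.prime
  have hfV : Finite V := Module.finite_of_finite F
  have hfE : Finite (V ≃ₗ[F] V) := Finite.of_injective (fun e : V ≃ₗ[F] V => (e : V → V)) DFunLike.coe_injective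
  have hpp := h.pp_fxG hN
  have hW := h.finrank_fxG hN
  have h3m := h.hm
  set A := AA (preE e H) (fxG N) with hA
  set A1 := A.map (piE e H) with hA1
  have hAn : A.Normal := by
    refine ⟨fun a ha d => ?_⟩
    rw [mem_AA] at ha ⊢
    intro v
    have h1 := h.fxG_inv hN (ha ((d : V ≃ₗ[F] V).symm v)) d.2
    rw [map_sub, LinearEquiv.apply_symm_apply] at h1
    exact h1
  have hA1le : A1 ≤ H ⊓ T := by
    rintro _ ⟨a, -, rfl⟩
    exact piE_mem a
  have hA1p : IsPGroup p A1 := (h.isPGroup_AA hN).map _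
  have hA1n : ∀ x ∈ H ⊓ T, ∀ y ∈ A1, x * y * x⁻¹ ∈ A1 := by
    rintro x hx _ ⟨a, ha, rfl⟩
    obtain ⟨d, rfl⟩ := exists_piE (e := e) hx
    refine ⟨d * a * d⁻¹, hAn.conj_mem a ha d, ?_⟩
    rw [map_mul, map_mul, map_inv]
  -- every normal `p`-subgroup is contained in `A1`
  have key : ∀ P : Subgroup G, P ≤ H ⊓ T → IsPGroup p P → (∀ x ∈ H ⊓ T, ∀ y ∈ P, x * y * x⁻¹ ∈ P) → P ≤ A1 := by
    intro P hP hPp hPn
    obtain ⟨N1, hN1n, hN1p, hN1⟩ := exists_lift (piE e H) ker_piE_le hPp (fun x hx => by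
      obtain ⟨d, rfl⟩ := exists_piE (e := e) (hP hx)
      exact ⟨d, rfl⟩) (fun d y hy => hPn _ (piE_mem d) y hy)
    rw [← hN1]
    apply Subgroup.map_mono
    by_cases hbot : N1 = ⊥
    · rw [hbot]; exact bot_le
    have hNP' : NP (preE e H) p (N1.map (preE e H).subtype) := by
      refine ⟨?_, ?_, hN1p.map _, ?_⟩
      · rintro _ ⟨x, -, rfl⟩
        exact x.2
      · rintro g hg _ ⟨n, hn, rfl⟩
        exact ⟨⟨g, hg⟩ * n * ⟨g, hg⟩⁻¹, hN1n.conj_mem n hn _, rfl⟩
      · intro h1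
        apply hbot
        rwa [Subgroup.map_eq_bot_iff_of_injective _ (Subgroup.subtype_injective _)] at h1
    intro n hn
    rw [mem_AA]
    intro v
    rw [← hpp]
    intro w hw
    rw [h.fxG_eq hN hNP'] at hw
    have h3 : polar Q w ((n : V ≃ₗ[F] V) v) = polar Q w v := by
      have h4 := polar_map (h.le n.2) w v
      have h5 : (n : V ≃ₗ[F] V) w = w := hw _ ⟨n, hn, rfl⟩
      rw [h5] at h4
      exact h4
    show polar Q w ((n : V ≃ₗ[F] V) v - v) = 0
    rw [polar_sub_right, h3, sub_self]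
  -- `H` normalises `A1`
  have hconj : ∀ x ∈ H, ∀ y ∈ A1, x * y * x⁻¹ ∈ A1 := by
    intro x hx y hy
    have hTn : T.Normal := inferInstance
    have hinf : ∀ z ∈ H ⊓ T, ∀ x ∈ H, x * z * x⁻¹ ∈ H ⊓ T := fun z hz x hx =>
      ⟨H.mul_mem (H.mul_mem hx hz.1) (H.inv_mem hx), hTn.conj_mem z hz.2 x⟩
    refine key (A1.map (MulAut.conj x).toMonoidHom) ?_ (hA1p.map _) ?_ ⟨y, hy, rfl⟩
    · rintro _ ⟨a, ha, rfl⟩
      exact hinf a (hA1le ha) x hx
    · rintro z hz _ ⟨a, ha, rfl⟩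
      refine ⟨x⁻¹ * z * x * a * (x⁻¹ * z * x)⁻¹, ?_, ?_⟩
      · refine hA1n _ ?_ a ha
        have := hinf z hz x⁻¹ (H.inv_mem hx)
        rwa [inv_inv] at this
      · show x * (x⁻¹ * z * x * a * (x⁻¹ * z * x)⁻¹) * x⁻¹ = z * (x * a * x⁻¹) * z⁻¹
        group
  have hle : H ≤ Subgroup.normalizer (A1 : Set G) := by
    intro x hx
    rw [Subgroup.mem_normalizer_iff]
    intro y
    constructor
    · exact fun hy => hconj x hx y hy
    · intro hy
      have h1 := hconj x⁻¹ (H.inv_mem hx) _ hy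
      have h2 : x⁻¹ * (x * y * x⁻¹) * x⁻¹⁻¹ = y := by group
      rwa [h2] at h1
  have heq : Subgroup.normalizer (A1 : Set G) = H := by
    by_contra hne
    have htop : Subgroup.normalizer (A1 : Set G) = ⊤ := hmax.2 _ (lt_of_le_of_ne hle (Ne.symm hne))
    have hn : A1.Normal := Subgroup.normalizer_eq_top_iff.1 htop
    have hn' : (A1.subgroupOf T).Normal := hn.subgroupOf T
    rcases hn'.eq_bot_or_eq_top with h1 | h1
    · apply h.AA_ne_bot hN
      rw [Subgroup.eq_bot_iff_forall]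
      intro a ha
      have h2 : piE e H a = 1 := by
        have h3 : (⟨piE e H a, (piE_mem a).2⟩ : T) ∈ A1.subgroupOf T := ⟨a, ha, rfl⟩
        rw [h1, Subgroup.mem_bot] at h3
        exact congrArg Subtype.val h3
      obtain ⟨u, hu, hu0⟩ : ∃ u ∈ fxG N, u ≠ 0 := by
        by_contra hcon
        push Not at hcon
        have h1 : fxG N = ⊥ := (Submodule.eq_bot_iff _).2 hcon
        rw [h1, finrank_bot] at hW
        omega
      exact Subtype.ext (eq_one_of_central hG a.2.1 (central_of_piE h2) hu0 (h.triv_on hN (h.le a.2) ha u hu))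
    · apply hnl
      have h2 : T ≤ A1 := Subgroup.subgroupOf_eq_top.1 h1
      exact h2.trans (hA1le.trans inf_le_left)
  obtain ⟨u, w, hu, hw, huQ, huw, hmem⟩ := h.exists_siegel_notMem hN
  apply hmem
  have hsE := siegel_mem_E huQ huw
  rw [mem_preE hsE, ← heq, Subgroup.mem_normalizer_iff]
  have hcomm : ∀ y ∈ A1, ((e.symm (QuotientGroup.mk ⟨_, hsE⟩) : T) : G) * y =
      y * ((e.symm (QuotientGroup.mk ⟨_, hsE⟩) : T) : G) := by
    rintro _ ⟨a, ha, rfl⟩
    have h1 := h.triv_on hN (h.le a.2) ha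
    have h2 : siegel Q u w huQ huw * (a : V ≃ₗ[F] V) = (a : V ≃ₗ[F] V) * siegel Q u w huQ huw := by
      have h3 := siegel_conj (h.le a.2) huQ huw (by rw [h1 u hu]; exact huQ) (by rw [h1 u hu, h1 w hw]; exact huw)
      have h4 : (a : V ≃ₗ[F] V) * siegel Q u w huQ huw * (a : V ≃ₗ[F] V)⁻¹ = siegel Q u w huQ huw := by
        rw [h3]
        ext z
        rw [siegel_apply, siegel_apply, h1 u hu, h1 w hw]
      rw [mul_inv_eq_iff_eq_mul] at h4
      exact h4.symm
    have h5 : (⟨_, hsE⟩ * ⟨a.1, a.2.1⟩ : ↥(E Q)) = ⟨a.1, a.2.1⟩ * ⟨_, hsE⟩ := Subtype.ext h2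
    rw [piE_apply, ← Subgroup.coe_mul, ← Subgroup.coe_mul, ← map_mul, ← map_mul, ← QuotientGroup.mk_mul, ← QuotientGroup.mk_mul, h5]
  intro y
  constructor
  · intro hy
    rw [hcomm y hy, mul_inv_cancel_right]
    exact hy
  · intro hy
    have h1 := hcomm _ hy
    have h2 : y = ((e.symm (QuotientGroup.mk ⟨_, hsE⟩) : T) : G) * y * ((e.symm (QuotientGroup.mk ⟨_, hsE⟩) : T) : G)⁻¹ := by
      generalize ((e.symm (QuotientGroup.mk ⟨_, hsE⟩) : T) : G) = s at h1 ⊢
      have h3 : s * (s * y * s⁻¹) = s * y := by rw [h1]; group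
      exact (mul_left_cancel h3).symm
    rw [h2]
    exact hy

end abs

variable {ι : Type} [Fintype ι] [DecidableEq ι] {F : Type v} [Field F] [Finite F] {Q : QuadraticForm F (ι → F)}
  {G : Type u} [Group G] {T : Subgroup G} [T.Normal] {eT : T ≃* POmega F (⇑Q)} {H B : Subgroup G}

/-- **F-D+1, `K = H`**, no hypothesis on the automorphisms -/
theorem no_alpha_free (hG : Good Q) (hE : Ex T H B) {c : F} (hc : c ≠ 0)
    (hfree : ∀ g ∈ preG eT H, ∀ u : ι → F, Q u = c → (g : Matrix ι ι F) *ᵥ u = u → g = 1) {p f m r : ℕ} (hp : p.Prime)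
    (hF : Nat.card F = p ^ f) (hι : Fintype.card ι = 2 * m) (hm : 3 ≤ m) (hr : r.Prime)
    (hord : orderOf (p : ZMod r) = f * m) (hrH : r ∣ Nat.card (preG eT H)) {N : Subgroup (GL ι F)} (hN : N ≤ preG eT H)
    (hNn : ∀ g ∈ preG eT H, ∀ n ∈ N, g * n * g⁻¹ ∈ N) (hNp : IsPGroup p N) : N = ⊥ := by
  by_contra hne
  have hLD : LD Q (preE (eP hG eT) H) p f m r c :=
    { nd := hG.nondeg
      prime := hp
      cardF := hF
      dim := by rw [Module.finrank_fintype_fun_eq_card, hι]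
      hm := hm
      le := preE_le_O
      hc := hc
      free := fun g hg u hu hgu => by
        have h1 := hfree _ (mem_preE_iff'.1 hg) u hu (by
          show glEquiv ι F ((glEquiv ι F).symm g) u = u
          rw [MulEquiv.apply_symm_apply]
          exact hgu)
        rw [MulEquiv.symm_apply_eq, map_one] at h1
        exact h1
      rprime := hr
      ord := hord
      rD := by rwa [card_preE] }
  refine no_alpha_abs hG hE.max hE.simple hE.not_le hLD (N := N.map (glEquiv ι F).toMonoidHom) ⟨?_, ?_, hNp.map _, ?_⟩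
  · rw [← map_preG]
    exact Subgroup.map_mono hN
  · rintro g hg _ ⟨n, hn, rfl⟩
    refine ⟨(glEquiv ι F).symm g * n * ((glEquiv ι F).symm g)⁻¹, hNn _ (mem_preE_iff'.1 hg) n hn, ?_⟩
    show glEquiv ι F ((glEquiv ι F).symm g * n * ((glEquiv ι F).symm g)⁻¹) = g * glEquiv ι F n * g⁻¹
    rw [map_mul, map_mul, map_inv, MulEquiv.apply_symm_apply]
  · intro h1
    apply hne
    rwa [Subgroup.map_eq_bot_iff_of_injective _ (glEquiv ι F).injective] at h1

/-- `T` as a subgroup of `G1` -/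
noncomputable def eT1 (eT : T ≃* POmega F (⇑Q)) {G1 : Subgroup G} (hT1 : T ≤ G1) : T.subgroupOf G1 ≃* POmega F (⇑Q) :=
  (Subgroup.subgroupOfEquivOfLe hT1).trans eT

/-- the preimages of `X ∩ T` computed in `G` and in a subgroup `G1` containing `T` agree -/
theorem preG_sub {G1 : Subgroup G} (hT1 : T ≤ G1) {X : Subgroup G} :
    preG (eT1 eT hT1) (X.subgroupOf G1) = preG eT X := by
  ext g
  constructor
  · intro h
    obtain ⟨x, rfl, hx⟩ := exists_of_mem_preG h
    exact mem_preG.2 hx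
  · intro h
    obtain ⟨x, rfl, hx⟩ := exists_of_mem_preG h
    exact mem_preG.2 hx

end Cfsg.Agent.H826.Rg
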