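import Cfsg.Agent.H826.Rg.NoAlphaT
import Cfsg.Agent.H920.Rg.Final

/-!
# S3691, residual case F-D+1: the end (helper826)

* `plus_false` : `Ex T H B`, `{X, Y} = {H, B}`, `T ≤ G1`, in `G1`: `Fac`, `Ind`, `ResV` for `X ∩ G1`; `r ∣ |Y ∩ T|` : impossible
* `plus_false'` : the case `G1 = G`
-/

set_option autoImplicit false
set_option linter.unusedSectionVars false

namespace Cfsg.Agent.H826.Rg

open QuadraticMap Module Cfsg Cfsg.Geo
open Cfsg.Agent.LieClassical.OrthCore Cfsg.Agent.LieClassical.OrthTrans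
open Cfsg.Agent.ClassicalGeometry.OrthSemi Cfsg.Agent.H454.Reg Cfsg.Agent.H449.Reg Cfsg.Agent.H884.El
open Cfsg.Agent.H964.Rg (ResV)
open Cfsg.Agent.LieClassical.OrthFinite (glEquiv)
open scoped MatrixGroups Matrix

universe u v

section abs

variable {G : Type*} [Group G] {T : Subgroup G} [T.Normal]
variable {F V : Type*} [Field F] [AddCommGroup V] [Module F V] {Q : QuadraticForm F V}
variable {e : T ≃* (↥(E Q) ⧸ Subgroup.center ↥(E Q))} {H B : Subgroup G} [Finite F] [FiniteDimensional F V] [Finite G]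

/-- the order of the regular factor if `H` contains the stabiliser of a nonsingular vector -/
theorem card_B_le (hG : Good Q) (hE : Ex T H B) {v : V} (hv : v ≠ 0) (hvQ : Q v ≠ 0)
    (hst : ∀ g ∈ E Q, g v = v → g ∈ preE e H) : Nat.card B ≤ Nat.card {u : V // Q u = Q v} := by
  have hfV : Finite V := Module.finite_of_finite F
  have hfE : Finite (V ≃ₗ[F] V) := Finite.of_injective (fun e : V ≃ₗ[F] V => (e : V → V)) DFunLike.coe_injective
  -- `E Q`
  have h1 : (MulAction.orbit (E Q) v).ncard * Nat.card (MulAction.stabilizer (E Q) v) = Nat.card (E Q) := by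
    rw [← MulAction.index_stabilizer, mul_comm]
    exact Subgroup.card_mul_index _
  have h2 : (MulAction.orbit (E Q) v).ncard ≤ Nat.card {u : V // Q u = Q v} := by
    have h3 : MulAction.orbit (E Q) v ⊆ {u | Q u = Q v} := by
      rintro _ ⟨g, rfl⟩
      exact E_le_O g.2 v
    exact Set.ncard_le_ncard h3 (Set.toFinite _)
  -- the stabiliser embeds in `H ∩ T`
  have h3 : Nat.card (MulAction.stabilizer (E Q) v) ≤ Nat.card (H.subgroupOf T) := by
    let φ : MulAction.stabilizer (E Q) v → H.subgroupOf T := fun g =>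
      ⟨e.symm (QuotientGroup.mk g.1), (mem_preE (e := e) (X := H) g.1.2).1 (hst g.1.1 g.1.2 g.2)⟩
    refine Nat.card_le_card_of_injective φ fun a b hab => ?_
    have h4 : e.symm (QuotientGroup.mk a.1) = e.symm (QuotientGroup.mk b.1) := congrArg Subtype.val hab
    have h5 : (QuotientGroup.mk a.1 : ↥(E Q) ⧸ Subgroup.center ↥(E Q)) = QuotientGroup.mk b.1 := e.symm.injective h4
    rw [QuotientGroup.eq] at h5
    have h6 : ((a.1)⁻¹ * b.1 : ↥(E Q)).1 v = v := by
      have ha : a.1.1 v = v := a.2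
      have hb : b.1.1 v = v := b.2
      show a.1.1.symm (b.1.1 v) = v
      rw [hb, LinearEquiv.symm_apply_eq, ha]
    have h7 : ((a.1)⁻¹ * b.1 : ↥(E Q)).1 = 1 := eq_one_of_central hG ((a.1)⁻¹ * b.1 : ↥(E Q)).2 h5 hv h6
    have h8 : (a.1)⁻¹ * b.1 = 1 := Subtype.ext h7
    exact Subtype.ext (inv_mul_eq_one.1 h8)
  have h4 : Nat.card T ≤ Nat.card (E Q) := by
    rw [Nat.card_congr e.toEquiv]
    exact Nat.card_le_card_of_surjective _ (QuotientGroup.mk_surjective)
  have h5 := hE.card_mul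
  have hpos : 0 < Nat.card (H.subgroupOf T) := Nat.card_pos
  by_contra hcon
  push Not at hcon
  have h6 : Nat.card (H.subgroupOf T) * Nat.card {u : V // Q u = Q v} < Nat.card (H.subgroupOf T) * Nat.card B :=
    Nat.mul_lt_mul_of_pos_left hcon hpos
  rw [h5] at h6
  have h7 : Nat.card (E Q) ≤ Nat.card (H.subgroupOf T) * Nat.card {u : V // Q u = Q v} := by
    rw [← h1, mul_comm]
    exact Nat.mul_le_mul h3 h2
  omega

end abs

theorem big_of {p f m N : ℕ} (hp : p.Prime) (hm : 1 ≤ m) (h1 : 3 * Nat.factorial 29 < N)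
    (h2 : N ≤ (p ^ f) ^ (m - 1) * ((p ^ f) ^ m - 1)) : 2 ^ 50 ≤ p ^ (f * m) := by
  by_contra hcon
  push Not at hcon
  have h3 : (p ^ f) ^ (m - 1) ≤ p ^ (f * m) := by
    rw [← pow_mul]
    exact Nat.pow_le_pow_right hp.pos (Nat.mul_le_mul_left f (by omega))
  have h4 : (p ^ f) ^ m - 1 ≤ p ^ (f * m) := by
    rw [← pow_mul]
    omega
  have h5 : (p ^ f) ^ (m - 1) * ((p ^ f) ^ m - 1) ≤ p ^ (f * m) * p ^ (f * m) := Nat.mul_le_mul h3 h4
  have h6 : p ^ (f * m) * p ^ (f * m) < 2 ^ 50 * 2 ^ 50 := Nat.mul_lt_mul'' hcon hcon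
  have h7 : (2 : ℕ) ^ 50 * 2 ^ 50 ≤ 3 * Nat.factorial 29 := by decide +kernel
  omega

variable {ι : Type} [Fintype ι] [DecidableEq ι] {F : Type v} [Field F] [Finite F] {Q : QuadraticForm F (ι → F)}
  {G : Type u} [Group G] [Finite G] {T : Subgroup G} [T.Normal]

/-- the preimages computed in `G` and in `G1` agree -/
theorem preG_sub' {eT : T ≃* POmega F (⇑Q)} {G1 : Subgroup G} {e1 : T.subgroupOf G1 ≃* POmega F (⇑Q)}
    (he1 : ∀ x, (((e1.symm x : T.subgroupOf G1) : G1) : G) = ((eT.symm x : T) : G)) {X : Subgroup G} :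
    preG e1 (X.subgroupOf G1) = preG eT X := by
  ext g
  constructor
  · intro h
    obtain ⟨x, rfl, hx⟩ := exists_of_mem_preG h
    rw [Subgroup.mem_subgroupOf, he1] at hx
    exact mem_preG.2 hx
  · intro h
    obtain ⟨x, rfl, hx⟩ := exists_of_mem_preG h
    refine mem_preG.2 ?_
    rw [Subgroup.mem_subgroupOf, he1]
    exact hx

/-- **F-D+1, the end** (with a subgroup `G1` of `G`) -/
theorem plus_false (hMain : H667.HerFin.Main.{v}) (hJ : H997.Rg.OutJ1.{v}) {H B : Subgroup G} (hE : Ex T H B) (hG : Good Q)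
    (eT : T ≃* POmega F (⇑Q)) {G1 : Subgroup G} {e1 : T.subgroupOf G1 ≃* POmega F (⇑Q)}
    (he1 : ∀ x, (((e1.symm x : T.subgroupOf G1) : G1) : G) = ((eT.symm x : T) : G)) {X Y : Subgroup G}
    (hXY : (X = H ∧ Y = B) ∨ (X = B ∧ Y = H)) (hf : Fac (T.subgroupOf G1) (X.subgroupOf G1) (Y.subgroupOf G1))
    {hI : Ind (eP hG e1)} {v : ι → F} (hR : ResV hI (X.subgroupOf G1) v) {p f m r : ℕ} (hp : p.Prime) (hf1 : 1 ≤ f)
    (hF : Nat.card F = p ^ f) (hι : Fintype.card ι = 2 * m) (hm : 4 ≤ m) (hS : H997.Rg.SzM m (p ^ f))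
    (hD : ∃ D : Submodule F (ι → F), finrank F D = m ∧ ∀ x ∈ D, Q x = 0) (hr : r.Prime)
    (hord : orderOf (p : ZMod r) = f * m) (hrY : r ∣ Nat.card (preG eT Y)) : False := by
  have hrY1 : r ∣ Nat.card (preG e1 (Y.subgroupOf G1)) := by rwa [preG_sub' he1]
  refine H920.Rg.beta_plus hJ hf hR hp hf1 hF hι hm hS hD hr hord hrY1 fun N hN hNn hNp => ?_
  rcases hXY with ⟨rfl, rfl⟩ | ⟨rfl, rfl⟩
  · -- `K = B`
    have hcnt : Nat.card {u : ι → F // Q u = Q v} = (p ^ f) ^ (m - 1) * ((p ^ f) ^ m - 1) := by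
      refine H826.Rg920.cnt F (ι → F) Q (p ^ f) m (Q v) hG.nondeg hF ?_ (by omega) hR.ne hD
      rw [Module.finrank_fintype_fun_eq_card, hι]
    have hv0 : v ≠ 0 := by
      rintro rfl
      exact hR.ne (QuadraticMap.map_zero Q)
    have h1 : Nat.card Y ≤ Nat.card {u : ι → F // Q u = Q v} := by
      refine card_B_le (e := eP hG eT) hG hE hv0 hR.ne fun g hg hgv => ?_
      rw [mem_preE_iff', ← preG_sub' he1, ← mem_preE_iff' (hG := hG)]
      exact sg_le_preE hR (mem_Sg_of_fix hG.nondeg (by rw [Module.finrank_fintype_fun_eq_card]; omega) hR.ne hg hgv)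
    rw [hcnt] at h1
    exact alpha_plus hMain hf hR hp hF hι hm (big_of hp (by omega) hE.large h1) hr hord hrY1 hN hNn hNp
  · -- `K = H`
    rw [preG_sub' he1] at hN hNn
    refine no_alpha_free hG hE hR.ne (fun g hg u hu hgu => ?_) hp hF hι (by omega) hr hord hrY hN hNn hNp
    rw [← preG_sub' he1] at hg
    exact semiregG (by omega) hf hR hg hu hgu

/-- **F-D+1, the end** -/
theorem plus_false' (hMain : H667.HerFin.Main.{v}) (hJ : H997.Rg.OutJ1.{v}) {H B : Subgroup G} (hE : Ex T H B) (h0 : ¬ T ≤ B)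
    {hG : Good Q} {eT : T ≃* POmega F (⇑Q)} {X Y : Subgroup G} (hXY : (X = H ∧ Y = B) ∨ (X = B ∧ Y = H))
    {hI : Ind (eP hG eT)} {v : ι → F} (hR : ResV hI X v) {p f m r : ℕ} (hp : p.Prime) (hf1 : 1 ≤ f)
    (hF : Nat.card F = p ^ f) (hι : Fintype.card ι = 2 * m) (hm : 4 ≤ m) (hS : H997.Rg.SzM m (p ^ f))
    (hD : ∃ D : Submodule F (ι → F), finrank F D = m ∧ ∀ x ∈ D, Q x = 0) (hr : r.Prime)
    (hord : orderOf (p : ZMod r) = f * m) (hrY : r ∣ Nat.card (preG eT Y)) : False := by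
  have hf : Fac T X Y := by
    rcases hXY with ⟨rfl, rfl⟩ | ⟨rfl, rfl⟩
    · exact hE.fac h0
    · exact (hE.fac h0).symm
  refine H920.Rg.beta_plus hJ hf hR hp hf1 hF hι hm hS hD hr hord hrY fun N hN hNn hNp => ?_
  rcases hXY with ⟨rfl, rfl⟩ | ⟨rfl, rfl⟩
  · -- `K = B`
    have hcnt : Nat.card {u : ι → F // Q u = Q v} = (p ^ f) ^ (m - 1) * ((p ^ f) ^ m - 1) := by
      refine H826.Rg920.cnt F (ι → F) Q (p ^ f) m (Q v) hG.nondeg hF ?_ (by omega) hR.ne hD
      rw [Module.finrank_fintype_fun_eq_card, hι]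
    have hv0 : v ≠ 0 := by
      rintro rfl
      exact hR.ne (QuadraticMap.map_zero Q)
    have h1 : Nat.card Y ≤ Nat.card {u : ι → F // Q u = Q v} := by
      refine card_B_le (e := eP hG eT) hG hE hv0 hR.ne fun g hg hgv => ?_
      exact sg_le_preE hR (mem_Sg_of_fix hG.nondeg (by rw [Module.finrank_fintype_fun_eq_card]; omega) hR.ne hg hgv)
    rw [hcnt] at h1
    exact alpha_plus hMain hf hR hp hF hι hm (big_of hp (by omega) hE.large h1) hr hord hrY hN hNn hNp
  · -- `K = H`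
    exact no_alpha_free hG hE hR.ne (fun g hg u hu hgu => semiregG (by omega) hf hR hg hu hgu) hp hF hι (by omega) hr hord hrY
      hN hNn hNp

end Cfsg.Agent.H826.Rg
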