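import Cfsg.Agent.H826.Rg.Gam
import Cfsg.Agent.H386.Rg.Alpha

/-!
# S3691, residual case D+1 (alpha) (helper826)

`false_of_np` : `D` semiregular on the vectors of norm `c`, `Γ` a group of semisimilitudes with `Γ ∩ E Q = D`, transitive on the
vectors of norm `c`, `r` a prime divisor of `|D|` with `ord_r(p) = f m`, `2 ^ 50 ≤ q ^ m`: `D` has no normal `p`-subgroup `≠ 1`.
-/

set_option autoImplicit false
set_option linter.unusedSectionVars false

namespace Cfsg.Agent.H826.Rg

open QuadraticMap Module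
open Cfsg.Agent.LieClassical.OrthCore Cfsg.Agent.LieClassical.OrthTrans
open Cfsg.Agent.ClassicalGeometry.OrthSemi Cfsg.Agent.H449.Reg

universe w

section quot

variable {F : Type*} {V : Type w} [Field F] [AddCommGroup V] [Module F V] {Q : QuadraticForm F V}

/-- the map induced on `V / W` -/
noncomputable def lamF {W : Submodule F V} (M : Gam Q) (x : V ⧸ W) : V ⧸ W := Submodule.Quotient.mk (M.1 (Quotient.out x))

theorem lamF_mk {W : Submodule F V} {M : Gam Q} (hM : ∀ v ∈ W, M.1 v ∈ W) (v : V) :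
    lamF M (Submodule.Quotient.mk v : V ⧸ W) = Submodule.Quotient.mk (M.1 v) := by
  rw [lamF, Submodule.Quotient.eq]
  obtain ⟨σ, c, hS⟩ := M.2
  rw [← hS.sub]
  apply hM
  rw [← Submodule.Quotient.eq]
  exact Quotient.out_eq _

/-- the action on `V / W` of a group of semisimilitudes -/
noncomputable def lam {p : ℕ} (W : Submodule F V) [Module (ZMod p) (V ⧸ W)] (Γ : Subgroup (Gam Q))
    (hΓ : ∀ M ∈ Γ, ∀ v ∈ W, M.1 v ∈ W) : Γ →* ((V ⧸ W) ≃ₗ[ZMod p] (V ⧸ W)) where
  toFun M :=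
    { toFun := lamF M.1
      invFun := lamF (M⁻¹ : Γ).1
      map_add' := by
        intro x y
        obtain ⟨x, rfl⟩ := Submodule.Quotient.mk_surjective _ x
        obtain ⟨y, rfl⟩ := Submodule.Quotient.mk_surjective _ y
        rw [← Submodule.Quotient.mk_add, lamF_mk (hΓ _ M.2), lamF_mk (hΓ _ M.2), lamF_mk (hΓ _ M.2), add_of_mem M.1.2]
        rfl
      map_smul' := by
        intro c x
        let g : (V ⧸ W) →+ (V ⧸ W) := AddMonoidHom.mk' (lamF M.1) (by
          intro x y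
          obtain ⟨x, rfl⟩ := Submodule.Quotient.mk_surjective _ x
          obtain ⟨y, rfl⟩ := Submodule.Quotient.mk_surjective _ y
          rw [← Submodule.Quotient.mk_add, lamF_mk (hΓ _ M.2), lamF_mk (hΓ _ M.2), lamF_mk (hΓ _ M.2), add_of_mem M.1.2]
          rfl)
        exact ZMod.map_smul g c x
      left_inv := by
        intro x
        obtain ⟨x, rfl⟩ := Submodule.Quotient.mk_surjective _ x
        rw [lamF_mk (hΓ _ M.2), lamF_mk (hΓ _ (M⁻¹).2)]
        congr 1
        exact M.1.1.symm_apply_apply x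
      right_inv := by
        intro x
        obtain ⟨x, rfl⟩ := Submodule.Quotient.mk_surjective _ x
        rw [lamF_mk (hΓ _ (M⁻¹).2), lamF_mk (hΓ _ M.2)]
        congr 1
        exact M.1.1.apply_symm_apply x }
  map_one' := by
    ext x
    obtain ⟨x, rfl⟩ := Submodule.Quotient.mk_surjective _ x
    show lamF (1 : Γ).1 (Submodule.Quotient.mk x) = Submodule.Quotient.mk x
    rw [lamF_mk (hΓ _ (1 : Γ).2)]
    rfl
  map_mul' M N := by
    ext x
    obtain ⟨x, rfl⟩ := Submodule.Quotient.mk_surjective _ x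
    show lamF (M * N).1 (Submodule.Quotient.mk x) = lamF M.1 (lamF N.1 (Submodule.Quotient.mk x))
    rw [lamF_mk (hΓ _ (M * N).2), lamF_mk (hΓ _ N.2), lamF_mk (hΓ _ M.2)]
    rfl

theorem lam_mk {p : ℕ} (W : Submodule F V) [Module (ZMod p) (V ⧸ W)] (Γ : Subgroup (Gam Q))
    (hΓ : ∀ M ∈ Γ, ∀ v ∈ W, M.1 v ∈ W) (M : Γ) (v : V) :
    lam (p := p) W Γ hΓ M (Submodule.Quotient.mk v) = Submodule.Quotient.mk (M.1.1 v) := lamF_mk (hΓ _ M.2) v

end quot

section main

variable {F : Type*} {V : Type w} [Field F] [AddCommGroup V] [Module F V] {Q : QuadraticForm F V}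
variable {D N : Subgroup (V ≃ₗ[F] V)} {p f m r : ℕ} {c : F} {Γ : Subgroup (Gam Q)}

/-- a group of semisimilitudes with `Γ ∩ E Q = D`, transitive on the vectors of norm `c` -/
structure GD (Q : QuadraticForm F V) (D : Subgroup (V ≃ₗ[F] V)) (c : F) (Γ : Subgroup (Gam Q)) : Prop where
  good : Good Q
  leE : D ≤ E Q
  mem : ∀ g : ↥(E Q), lg g ∈ Γ ↔ (g : V ≃ₗ[F] V) ∈ D
  trans : ∀ u u', Q u = c → Q u' = c → ∃ M ∈ Γ, M.1 u = u'

/-- conjugation -/
def conjH (M : Gam Q) : (V ≃ₗ[F] V) →* (V ≃ₗ[F] V) where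
  toFun := conjLin M
  map_one' := conjLin_one M
  map_mul' := conjLin_mul M

theorem GD.conj_mem (g : GD Q D c Γ) {M : Gam Q} (hM : M ∈ Γ) {d : V ≃ₗ[F] V} (hd : d ∈ D) : conjLin M d ∈ D := by
  have h1 := conjLin_mem_E M (g.leE hd)
  have h2 : lg ⟨conjLin M d, h1⟩ = M * lg ⟨d, g.leE hd⟩ * M⁻¹ := rfl
  have h3 := (g.mem ⟨conjLin M d, h1⟩).1 (by
    rw [h2]
    exact Γ.mul_mem (Γ.mul_mem hM ((g.mem ⟨d, g.leE hd⟩).2 hd)) (Γ.inv_mem hM))
  exact h3

variable [Finite F] [FiniteDimensional F V]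

open LD (AA mem_AA)

/-- `W` is invariant under `Γ` -/
theorem inv_W (h : LD Q D p f m r c) (g : GD Q D c Γ) (hN : NP D p N) : ∀ M ∈ Γ, ∀ v ∈ fxG N, M.1 v ∈ fxG N := by
  intro M hM v hv
  have hinj : Function.Injective (conjH (M⁻¹)) := by
    rw [injective_iff_map_eq_one]
    intro a ha
    have h1 := congrArg (conjLin M) ha
    change conjLin M (conjLin M⁻¹ a) = conjLin M 1 at h1
    rwa [← conjLin_mul_left, mul_inv_cancel, conjLin_one_left, conjLin_one] at h1
  have hN' : NP D p (N.map (conjH M⁻¹)) := by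
    refine ⟨?_, ?_, hN.pgrp.map _, ?_⟩
    · rintro _ ⟨n, hn, rfl⟩
      exact g.conj_mem (Γ.inv_mem hM) (hN.le hn)
    · rintro d hd _ ⟨n, hn, rfl⟩
      refine ⟨conjLin M d * n * (conjLin M d)⁻¹, hN.norm _ (g.conj_mem hM hd) n hn, ?_⟩
      show conjLin M⁻¹ (conjLin M d * n * (conjLin M d)⁻¹) = d * conjLin M⁻¹ n * d⁻¹
      rw [conjLin_mul, conjLin_mul, conjLin_inv, ← conjLin_mul_left, inv_mul_cancel, conjLin_one_left]
    · intro h1
      apply hN.ne
      rwa [Subgroup.map_eq_bot_iff_of_injective _ hinj] at h1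
  rw [h.fxG_eq hN hN'] at hv
  intro n hn
  have h1 := hv _ ⟨n, hn, rfl⟩
  have h2 : M.1⁻¹ (n (M.1 v)) = v := h1
  rw [Equiv.Perm.inv_eq_iff_eq] at h2
  exact h2.symm.symm

/-- the norm stabiliser -/
def Gc (Γ : Subgroup (Gam Q)) (c : F) : Subgroup Γ where
  carrier := {M | ∀ u, Q u = c ↔ Q (M.1.1 u) = c}
  mul_mem' {a b} ha hb u := (hb u).trans (ha _)
  one_mem' u := Iff.rfl
  inv_mem' {a} ha u := by
    have h1 := ha (a.1.1.symm u)
    rw [Equiv.apply_symm_apply] at h1
    exact h1.symm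

theorem Gc_trans (h : LD Q D p f m r c) (g : GD Q D c Γ) (hN : NP D p N) : p ^ (f * (m - 1)) ∣ Nat.card Γ := by
  have hfV : Finite V := Module.finite_of_finite F
  have hc := h.card_norm hN
  let _ : MulAction (Gc Γ c) {u : V // Q u = c} :=
    { smul := fun M u => ⟨M.1.1.1 u.1, (M.2 u.1).1 u.2⟩
      one_smul := fun u => rfl
      mul_smul := fun a b u => rfl }
  have hne : Nonempty {u : V // Q u = c} := by
    by_contra hcon
    rw [not_nonempty_iff] at hcon
    rw [Nat.card_of_isEmpty] at hc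
    have h1 : 0 < (p ^ (f * m) - 1) * p ^ (f * (m - 1)) := by
      apply Nat.mul_pos _ (Nat.pow_pos h.prime.pos)
      have := Nat.one_lt_pow h.fmpos.ne' h.prime.one_lt
      omega
    omega
  obtain ⟨u0⟩ := hne
  have : MulAction.IsPretransitive (Gc Γ c) {u : V // Q u = c} := by
    refine ⟨fun u u' => ?_⟩
    obtain ⟨M, hM, hMu⟩ := g.trans u.1 u'.1 u.2 u'.2
    obtain ⟨σ, d, hS⟩ := M.2
    have h1 : d * σ c = c := by
      have := hS.form u.1
      rw [hMu, u.2, u'.2] at this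
      exact this.symm
    refine ⟨⟨⟨M, hM⟩, fun z => ?_⟩, Subtype.ext hMu⟩
    show Q z = c ↔ Q (M.1 z) = c
    rw [hS.form]
    constructor
    · intro hz
      rw [hz, h1]
    · intro hz
      rw [← h1] at hz
      have h2 := mul_left_cancel₀ hS.ne hz
      -- `σ (Q z) = σ c'` with `c' = c`
      have h3 : σ (Q z) = σ c := h2
      exact σ.injective h3
  have h1 := MulAction.index_stabilizer_of_transitive (Gc Γ c) u0
  rw [hc] at h1
  have h2 : (MulAction.stabilizer (Gc Γ c) u0).index ∣ Nat.card (Gc Γ c) := Subgroup.index_dvd_card _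
  rw [h1] at h2
  exact (Dvd.intro_left _ rfl).trans (h2.trans (Subgroup.card_subgroup_dvd_card _))

/-- a `p`-element of `Γ` trivial on `V / W` comes from `D` -/
theorem exists_D (h : LD Q D p f m r c) (g : GD Q D c Γ) (hN : NP D p N) {M : Gam Q} (hM : M ∈ Γ)
    (hMW : ∀ v, M.1 v - v ∈ fxG N) {k : ℕ} (hk : M ^ p ^ k = 1) : ∃ a ∈ AA D (fxG N), lg ⟨a.1, g.leE a.2⟩ = M := by
  have := Fact.mk h.prime
  have hchar := h.charP
  obtain ⟨σ, d, hS⟩ := M.2
  have hWt : fxG N ≠ ⊤ := by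
    intro h1
    have h2 := h.finrank_fxG hN
    rw [h1, finrank_top, h.dim] at h2
    have := h.hm
    omega
  obtain ⟨u, hu⟩ : ∃ u, u ∉ fxG N := by
    by_contra hcon
    push Not at hcon
    exact hWt (eq_top_iff.2 fun x _ => hcon x)
  -- linear
  have hσ : σ = RingEquiv.refl F := by
    ext a
    by_contra hne
    apply hu
    have h1 := hMW (a • u)
    rw [hS.smul] at h1
    have h2 := (fxG N).smul_mem (σ a) (hMW u)
    have h3 := (fxG N).sub_mem h2 h1
    have h4 : σ a • (M.1 u - u) - (σ a • M.1 u - a • u) = (a - σ a) • u := by module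
    rw [h4] at h3
    have h5 : a - σ a ≠ 0 := fun h6 => hne (sub_eq_zero.1 h6).symm
    have h6 := (fxG N).smul_mem (a - σ a)⁻¹ h3
    rwa [smul_smul, inv_mul_cancel₀ h5, one_smul] at h6
  subst hσ
  -- isometry
  have hpow : ∀ (n : ℕ) (v : V), Q ((M ^ n).1 v) = d ^ n * Q v := by
    intro n v
    induction n with
    | zero => rw [pow_zero, pow_zero, one_mul]; rfl
    | succ n ih =>
      have h1 : (M ^ (n + 1)).1 v = M.1 ((M ^ n).1 v) := by rw [pow_succ']; rfl
      rw [h1, hS.form, ih, pow_succ]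
      show d * (d ^ n * Q v) = _
      ring
  have hd : d = 1 := by
    obtain ⟨z, hz⟩ : ∃ z, Q z ≠ 0 := by
      by_contra hcon
      push Not at hcon
      apply hu
      have h1 : u = 0 := by
        apply h.nd
        intro y
        have h2 := Q_add (Q := Q) u y
        rw [hcon, hcon, hcon, add_zero, zero_add] at h2
        exact h2.symm
      rw [h1]; exact (fxG N).zero_mem
    have h1 := hpow (p ^ k) z
    rw [hk] at h1
    have h2 : d ^ (p ^ k) = 1 := by
      have h3 : (1 : Gam Q).1 z = z := rfl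
      rw [h3] at h1
      have h4 : d ^ p ^ k * Q z = 1 * Q z := by rw [one_mul]; exact h1.symm
      exact mul_right_cancel₀ hz h4
    have h5 : (d - 1) ^ p ^ k = 0 := by rw [sub_pow_char_pow, h2, one_pow, sub_self]
    exact sub_eq_zero.1 (pow_eq_zero_iff (Nat.pow_pos h.prime.pos).ne' |>.1 h5)
  subst hd
  set a := toL M hS with ha
  have haO : a ∈ O Q := toL_mem M hS
  have hav : ∀ v, a v - v ∈ fxG N := hMW
  have haE : a ∈ E Q := by
    have h1 := mem_closure_of_res h.nd (fxG N) haO hav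
    have h2 : Subgroup.closure (genSet Q (fxG N)) ≤ E Q := by
      rw [Subgroup.closure_le]
      rintro _ (⟨b, hb, hbW, rfl⟩ | ⟨u, w, hu, hw, huU, hwU, rfl⟩)
      · exact absurd (h.sing_fxG hN b hbW) hb
      · exact siegel_mem_E hu hw
    exact h2 h1
  have haM : lg ⟨a, haE⟩ = M := rfl
  have haD : a ∈ D := (g.mem ⟨a, haE⟩).1 (by rw [haM]; exact hM)
  exact ⟨⟨a, haD⟩, hav, rfl⟩

theorem four_lt {n : ℕ} (hn : 17 ≤ n) : n ^ 4 < 2 ^ n := by
  induction n, hn using Nat.le_induction with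
  | base => norm_num
  | succ n hn ih =>
    have h1 : (n + 1) ^ 4 ≤ 2 * n ^ 4 := by
      obtain ⟨k, rfl⟩ := Nat.exists_eq_add_of_le hn
      nlinarith [Nat.zero_le k, Nat.zero_le (k ^ 2), Nat.zero_le (k ^ 3), Nat.zero_le (k ^ 4)]
    rw [pow_succ 2 n]
    omega

theorem num_ineq {p f m a : ℕ} (hp : 1 < p) (hm : 4 ≤ m) (hbig : 2 ^ 50 ≤ p ^ (f * m)) (ha : p ^ (f * (m - 1)) ≤ a) :
    (f * m) ^ 2 * p ^ (f * m) < a ^ 2 := by
  have h1 : (f * m) ^ 4 < p ^ (f * m) := by
    rcases Nat.lt_or_ge (f * m) 17 with h | h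
    · have h2 : (f * m) ^ 4 ≤ 16 ^ 4 := Nat.pow_le_pow_left (by omega) 4
      have h3 : (16 : ℕ) ^ 4 < 2 ^ 50 := by norm_num
      omega
    · exact (four_lt h).trans_le (Nat.pow_le_pow_left hp _)
  have h2 : p ^ (f * m) ≤ (p ^ (f * (m - 2))) ^ 2 := by
    rw [← pow_mul]
    apply Nat.pow_le_pow_right (by omega)
    rw [mul_assoc]
    exact Nat.mul_le_mul_left f (by omega)
  have h3 : (f * m) ^ 2 < p ^ (f * (m - 2)) := by
    by_contra hcon
    push Not at hcon
    have h4 := Nat.pow_le_pow_left hcon 2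
    have h5 : ((f * m) ^ 2) ^ 2 = (f * m) ^ 4 := by rw [← pow_mul]
    omega
  have h4 : p ^ (f * (m - 2)) * p ^ (f * m) = (p ^ (f * (m - 1))) ^ 2 := by
    rw [← pow_add, ← pow_mul, ← Nat.mul_add, mul_assoc]
    congr 2
    omega
  calc (f * m) ^ 2 * p ^ (f * m) < p ^ (f * (m - 2)) * p ^ (f * m) := Nat.mul_lt_mul_of_pos_right h3 (by positivity)
    _ = (p ^ (f * (m - 1))) ^ 2 := h4
    _ ≤ a ^ 2 := Nat.pow_le_pow_left ha 2

theorem false_of_np' [Module (ZMod p) (V ⧸ fxG N)] (hMain : H667.HerFin.Main.{w}) (h : LD Q D p f m r c) (hm4 : 4 ≤ m) (g : GD Q D c Γ)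
    (hbig : 2 ^ 50 ≤ p ^ (f * m)) (hN : NP D p N) : False := by
  have := Fact.mk h.prime
  have hfV : Finite V := Module.finite_of_finite F
  have hfE : Finite (V ≃ₗ[F] V) := Finite.of_injective (fun e : V ≃ₗ[F] V => (e : V → V)) DFunLike.coe_injective
  have hchar := h.charP
  have hW := h.finrank_fxG hN
  have hpp := h.pp_fxG hN
  have hsing := h.sing_fxG hN
  have hΓ := inv_W h g hN
  have hpV : ∀ v : V, p • v = 0 := by
    intro v
    rw [← Nat.cast_smul_eq_nsmul F, CharP.cast_eq_zero, zero_smul]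
  have hcardW : Nat.card (fxG N) = p ^ (f * m) := by
    rw [Module.natCard_eq_pow_finrank (K := F) (V := fxG N), h.cardF, hW, ← pow_mul]
  have hcardU : Nat.card (V ⧸ fxG N) = p ^ (f * m) := by
    rw [Module.natCard_eq_pow_finrank (K := F) (V := V ⧸ fxG N), h.cardF]
    have h1 := Submodule.finrank_quotient_add_finrank (fxG N)
    rw [h.dim, hW] at h1
    have h2 : finrank F (V ⧸ fxG N) = m := by omega
    rw [h2, ← pow_mul]
  have hfU : Finite (V ⧸ fxG N) := Finite.of_surjective _ (Submodule.Quotient.mk_surjective _)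
  -- the maps
  let pr : V →+ (V ⧸ fxG N) := (fxG N).mkQ.toAddMonoidHom
  have hpr : ∀ v, pr v = Submodule.Quotient.mk v := fun v => rfl
  have hprs : Function.Surjective pr := Submodule.Quotient.mk_surjective _
  have hprk : ∀ v, v ∈ pr.ker ↔ v ∈ fxG N := by
    intro v
    rw [AddMonoidHom.mem_ker, hpr, Submodule.Quotient.mk_eq_zero]
  let Lam := lam (p := p) (fxG N) Γ hΓ
  have hLam : ∀ (M : Γ) (v : V), Lam M (Submodule.Quotient.mk v) = Submodule.Quotient.mk (M.1.1 v) :=
    lam_mk (p := p) (fxG N) Γ hΓ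
  let κ : D →* Γ :=
    { toFun := fun d => ⟨lg ⟨d.1, g.leE d.2⟩, (g.mem ⟨d.1, g.leE d.2⟩).2 d.2⟩
      map_one' := rfl
      map_mul' := fun _ _ => rfl }
  let τ : D →* ((V ⧸ fxG N) ≃ₗ[ZMod p] (V ⧸ fxG N)) := Lam.comp κ
  have hτ : ∀ (x : D) (v : V), pr (x • v) = τ x (pr v) := by
    intro x v
    exact (hLam (κ x) v).symm
  have hτk : τ.ker = AA D (fxG N) := by
    ext a
    rw [MonoidHom.mem_ker, mem_AA]
    constructor
    · intro ha v
      rw [← Submodule.Quotient.eq]
      have h1 := hτ a v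
      rw [ha] at h1
      exact h1
    · intro ha
      ext x
      obtain ⟨v, rfl⟩ := hprs x
      rw [← hτ a v]
      show (Submodule.Quotient.mk ((a : V ≃ₗ[F] V) v) : V ⧸ fxG N) = Submodule.Quotient.mk v
      rw [Submodule.Quotient.eq]
      exact ha v
  have hker : Nat.card pr.ker = Nat.card (V ⧸ fxG N) := by
    rw [hcardU, ← hcardW]
    exact Nat.card_congr (Equiv.subtypeEquivRight hprk)
  -- norm `c` vectors in the cosets
  obtain ⟨ω, hω⟩ := h.exists_omega hN
  have hnorm : ∀ u : V, u ∉ fxG N → ∃ u', Q u' = c ∧ (Submodule.Quotient.mk u' : V ⧸ fxG N) = Submodule.Quotient.mk u := by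
    intro u hu
    refine ⟨u + (c - Q u) • ω (Submodule.Quotient.mk u), ?_, ?_⟩
    · rw [Q_add, QuadraticMap.map_smul, hsing _ (hω u hu).1, polar_smul_right, (hω u hu).2]
      simp
    · rw [Submodule.Quotient.eq, add_sub_cancel_left]
      exact (fxG N).smul_mem _ (hω u hu).1
  have hne : ∀ x : V ⧸ fxG N, x ≠ 0 → ∃ u', Q u' = c ∧ Submodule.Quotient.mk u' = x := by
    intro x hx
    obtain ⟨u, rfl⟩ := Submodule.Quotient.mk_surjective _ x
    refine hnorm u fun hu => hx ?_
    rwa [Submodule.Quotient.mk_eq_zero]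
  -- the order of `Γ`
  have hfΓ : Finite Γ := inferInstance
  have hfR : Finite Lam.range := Finite.of_surjective Lam.rangeRestrict Lam.rangeRestrict_surjective
  have hcardΓ : Nat.card Lam.ker * Nat.card Lam.range = Nat.card Γ := by
    rw [← Subgroup.index_ker Lam]
    exact Subgroup.card_mul_index _
  have hkerle : p ^ (Nat.card Lam.ker).factorization p ≤ Nat.card (AA D (fxG N)) := by
    obtain ⟨P⟩ : Nonempty (Sylow p Lam.ker) := inferInstance
    rw [← P.card_eq_multiplicity]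
    have hP : ∀ M : P, ∃ a ∈ AA D (fxG N), lg ⟨a.1, g.leE a.2⟩ = (M : Lam.ker).1.1 := by
      intro M
      obtain ⟨k, hk⟩ := P.2 M
      refine exists_D h g hN (M : Lam.ker).1.2 ?_ (k := k) ?_
      · intro v
        rw [← Submodule.Quotient.eq, ← hLam]
        have h1 := (M : Lam.ker).2
        rw [MonoidHom.mem_ker] at h1
        rw [h1]
        rfl
      · have h1 := congrArg (fun z : P => (z : Lam.ker).1.1) hk
        exact h1
    choose a ha ha' using hP
    refine Nat.card_le_card_of_injective (fun M => (⟨a M, ha M⟩ : AA D (fxG N))) ?_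
    intro M M' hMM
    have h1 : a M = a M' := congrArg Subtype.val hMM
    have h2 : (M : Lam.ker).1.1 = (M' : Lam.ker).1.1 := by
      rw [← ha' M, ← ha' M']
      congr 2
      exact congrArg Subtype.val h1
    exact Subtype.ext (Subtype.ext (Subtype.ext h2))
  have hle : p ^ (f * (m - 1)) ≤ Nat.card (AA D (fxG N)) * p ^ (Nat.card Lam.range).factorization p := by
    have h1 := Gc_trans h g hN
    have h2 : f * (m - 1) ≤ (Nat.card Γ).factorization p :=
      (h.prime.pow_dvd_iff_le_factorization Nat.card_pos.ne').1 h1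
    rw [← hcardΓ, Nat.factorization_mul Nat.card_pos.ne' Nat.card_pos.ne', Finsupp.add_apply] at h2
    calc p ^ (f * (m - 1)) ≤ p ^ ((Nat.card Lam.ker).factorization p + (Nat.card Lam.range).factorization p) :=
          Nat.pow_le_pow_right h.prime.pos h2
      _ = p ^ (Nat.card Lam.ker).factorization p * p ^ (Nat.card Lam.range).factorization p := pow_add _ _ _
      _ ≤ _ := Nat.mul_le_mul_right _ hkerle
  let β : V →+ V →+ F := AddMonoidHom.mk' (fun u => AddMonoidHom.mk' (fun v => polar Q u v) (fun a b => by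
    rw [polar_add_right])) (by
      intro a b
      ext v
      show polar Q (a + b) v = polar Q a v + polar Q b v
      rw [polar_add_left])
  have hβ : ∀ u v, β u v = polar Q u v := fun u v => rfl
  refine H386.Rg.alpha hMain (p := p) (n := f * m) hpV hcardU hbig pr hprs τ hτ hker ?_ ?_ ?_ ?_ ?_ Lam.range ?_ ⟨3, ?_⟩
    (-(AddMonoidHom.id F)) β ?_ ?_ ?_ 1 (f * (m - 1)) one_pos ?_ ?_ ?_ h.rprime h.ord h.rD (fun _ => 0) ?_ ?_ ?_
  · rw [hτk]
    exact h.isPGroup_AA hN
  · intro a ha w hw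
    rw [hτk] at ha
    exact h.triv_on hN (h.le a.2) ha w ((hprk w).1 hw)
  · intro a ha ha1 v hv
    rw [hτk] at ha
    exact (hprk v).2 (h.fix_AA hN ha ha1 hv)
  · rw [hτk]
    exact h.AA_ne_bot hN
  · rw [hτk]
    exact h.card_AA_lt hN
  · intro x y hx hy
    obtain ⟨u, hu, rfl⟩ := hne x hx
    obtain ⟨u', hu', rfl⟩ := hne y hy
    obtain ⟨M, hM, hMu⟩ := g.trans u u' hu hu'
    refine ⟨Lam ⟨M, hM⟩, ⟨_, rfl⟩, ?_⟩
    rw [hLam, hMu]
  · -- the derived series
    have h1 : (derivedSeries Lam.range 3).map Lam.range.subtype = ((derivedSeries Γ 3).map Lam) := by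
      rw [← map_derivedSeries_eq Lam.rangeRestrict_surjective 3, Subgroup.map_map]
      rfl
    rw [h1]
    rintro _ ⟨M, hM, rfl⟩
    have h2 : (M : Gam Q) ∈ derivedSeries (Gam Q) 3 := by
      have h3 := map_derivedSeries_le_derivedSeries Γ.subtype 3
      exact h3 ⟨M, hM, rfl⟩
    obtain ⟨a, ha⟩ := derived_le g.good h2
    have haD : (a : V ≃ₗ[F] V) ∈ D := (g.mem a).1 (by
      have h3 : lg a = (M : Gam Q) := ha
      rw [h3]; exact M.2)
    refine ⟨⟨a, haD⟩, ?_⟩
    show Lam (κ ⟨a, haD⟩) = Lam M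
    congr 1
    exact Subtype.ext ha
  · intro x u v
    exact polar_map (h.le x.2) u v
  · intro u hu
    rw [hprk, ← hpp]
    intro w hw
    rw [polarBilin_apply_apply, polar_comm]
    exact hu w ((hprk w).2 hw)
  · intro a ha u v
    rw [hτk] at ha
    show polar Q u ((a : V ≃ₗ[F] V) v - v) = -(polar Q v ((a : V ≃ₗ[F] V) u - u))
    have h1 := ha u
    have h2 := ha v
    have h3 : polar Q ((a : V ≃ₗ[F] V) u - u) ((a : V ≃ₗ[F] V) v - v) = 0 := by
      rw [← hpp] at h2
      exact h2 _ h1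
    have h4 := polar_map (h.le a.2) u v
    rw [polar_sub_left, polar_sub_right, polar_sub_right, h4] at h3
    rw [polar_sub_right, polar_sub_right, polar_comm Q v ((a : V ≃ₗ[F] V) u), polar_comm Q v u]
    linear_combination -h3
  · rw [one_mul]
    exact h.card_dvd hN
  · calc (1 + 1) ^ 3 < 2 ^ 50 := by norm_num
      _ ≤ _ := hbig
  · rw [hτk]
    exact num_ineq h.prime.one_lt hm4 hbig hle
  · intro x
    exact pr.ker.zero_mem
  · intro x y
    rw [smul_zero, add_zero]
  · intro u hu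
    obtain ⟨v, hv, rfl⟩ := hne u hu
    refine ⟨v, rfl, fun x hx => ?_⟩
    rw [add_zero] at hx
    exact Subtype.ext (h.free x x.2 v hv hx)

/-- **D+1, (alpha)** -/
theorem false_of_np (hMain : H667.HerFin.Main.{w}) (h : LD Q D p f m r c) (hm4 : 4 ≤ m) (g : GD Q D c Γ)
    (hbig : 2 ^ 50 ≤ p ^ (f * m)) (hN : NP D p N) : False := by
  have hchar := h.charP
  have hpU : ∀ x : V ⧸ fxG N, p • x = 0 := by
    intro x
    obtain ⟨x, rfl⟩ := Submodule.Quotient.mk_surjective _ x
    rw [← Submodule.Quotient.mk_smul, ← Nat.cast_smul_eq_nsmul F, CharP.cast_eq_zero, zero_smul, Submodule.Quotient.mk_zero]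
  let _ : Module (ZMod p) (V ⧸ fxG N) := AddCommGroup.zmodModule hpU
  exact false_of_np' hMain h hm4 g hbig hN

end main

end Cfsg.Agent.H826.Rg
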