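import Cfsg.Agent.H826.Rg.Bridge

/-!
# S3691: F-D+1, `K = H` : no normal `p`-subgroup (helper826)

`no_alpha_max` : `H` maximal, `B` contains the derived stabiliser of `v` and fixes `⟨v⟩`: `preG eT H` has no normal `p`-subgroup `≠ 1`.
(`H` would be the stabiliser of the totally singular subspace `W = C_V(N)`, which contains the Siegel transformations of `W`.)
-/

set_option autoImplicit false
set_option linter.unusedSectionVars false

namespace Cfsg.Agent.H826.Rg

open QuadraticMap Module Cfsg Cfsg.Geo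
open Cfsg.Agent.LieClassical.OrthCore Cfsg.Agent.LieClassical.OrthTrans
open Cfsg.Agent.ClassicalGeometry.OrthSemi Cfsg.Agent.H454.Reg Cfsg.Agent.H449.Reg Cfsg.Agent.H884.El
open Cfsg.Agent.H964.Rg (ResV)
open Cfsg.Agent.LieClassical.OrthFinite (glEquiv)
open scoped MatrixGroups Matrix

universe u v

section abs

variable {F V : Type*} [Field F] [AddCommGroup V] [Module F V] {Q : QuadraticForm F V}
variable {D N : Subgroup (V ≃ₗ[F] V)} {p f m r : ℕ} {c : F}
variable [Finite F] [FiniteDimensional F V]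

/-- `D` does not contain all Siegel transformations with centre and axis in `W` -/
theorem LD.exists_siegel_notMem (h : LD Q D p f m r c) (hN : NP D p N) :
    ∃ (u w : V) (_ : u ∈ fxG N) (_ : w ∈ fxG N) (hu : Q u = 0) (hw : polar Q u w = 0), siegel Q u w hu hw ∉ D := by
  have hW := h.finrank_fxG hN
  have hpp := h.pp_fxG hN
  have hsing := h.sing_fxG hN
  have h2m := h.hm
  have hnd := h.nd
  have hB : ∀ w ∈ fxG N, ∀ w' ∈ fxG N, polar Q w w' = 0 := by
    intro w hw w' hw'
    have h1 : w' ∈ pp Q (fxG N) := by rw [hpp]; exact hw'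
    exact h1 w hw
  obtain ⟨u, hu, hu0⟩ : ∃ u ∈ fxG N, u ≠ 0 := by
    by_contra hcon
    push Not at hcon
    have h1 : fxG N = ⊥ := (Submodule.eq_bot_iff _).2 hcon
    rw [h1, finrank_bot] at hW
    omega
  obtain ⟨w, hw, hwu⟩ : ∃ w ∈ fxG N, w ∉ F ∙ u := by
    by_contra hcon
    push Not at hcon
    have h1 : finrank F (fxG N) ≤ finrank F (F ∙ u) := Submodule.finrank_mono hcon
    rw [hW, finrank_span_singleton hu0] at h1
    omega
  refine ⟨u, w, hu, hw, hsing u hu, hB u hu w hw, fun hmem => ?_⟩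
  -- a vector `y` orthogonal to `u`, `w`, not in `W`
  obtain ⟨y, hyu, hyw, hyW⟩ : ∃ y, polar Q u y = 0 ∧ polar Q w y = 0 ∧ y ∉ fxG N := by
    by_contra hcon
    push Not at hcon
    let φ : V →ₗ[F] F × F := (polarBilin Q u).prod (polarBilin Q w)
    have h1 : finrank F (LinearMap.ker φ) ≤ finrank F (fxG N) := by
      apply Submodule.finrank_mono
      intro y hy
      have h2 : (polar Q u y, polar Q w y) = (0 : F × F) := hy
      rw [Prod.mk_eq_zero] at h2
      exact hcon y h2.1 h2.2
    have h2 := φ.finrank_range_add_finrank_ker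
    have h3 : finrank F (LinearMap.range φ) ≤ 2 := by
      refine (Submodule.finrank_le _).trans ?_
      rw [Module.finrank_prod, Module.finrank_self]
    rw [h.dim] at h2
    omega
  -- change it by an element of `W` to get norm `c`
  obtain ⟨ω, hω⟩ := h.exists_omega hN
  have hy1 := hω y hyW
  set z := y + (c - Q y) • ω (Submodule.Quotient.mk y) with hz
  have hzQ : Q z = c := by
    rw [hz, Q_add, QuadraticMap.map_smul, hsing _ hy1.1, polar_smul_right, hy1.2]
    simp
  have hzu : polar Q u z = 0 := by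
    rw [hz, polar_add_right, hyu, polar_smul_right, hB u hu _ hy1.1]
    simp
  have hzw : polar Q w z = 0 := by
    rw [hz, polar_add_right, hyw, polar_smul_right, hB w hw _ hy1.1]
    simp
  have h1 : siegel Q u w (hsing u hu) (hB u hu w hw) z = z := by
    rw [siegel_apply, hzu, hzw]
    simp
  have h2 := h.free _ hmem z hzQ h1
  -- but the Siegel transformation is not trivial
  obtain ⟨x, hx⟩ : ∃ x, polar Q u x ≠ 0 := by
    by_contra hcon
    push Not at hcon
    exact hu0 (hnd u hcon)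
  have h3 : siegel Q u w (hsing u hu) (hB u hu w hw) x = x := by rw [h2]; rfl
  rw [siegel_apply, hsing w hw, zero_mul, zero_smul, sub_zero, sub_eq_iff_eq_add, add_right_inj] at h3
  apply hwu
  rw [Submodule.mem_span_singleton]
  refine ⟨(polar Q u x)⁻¹ * polar Q w x, ?_⟩
  rw [mul_smul, ← h3, smul_smul, inv_mul_cancel₀ hx, one_smul]

end abs

variable {ι : Type} [Fintype ι] [DecidableEq ι] {F : Type v} [Field F] [Finite F] {Q : QuadraticForm F (ι → F)}
  {G : Type u} [Group G] [Finite G] {T : Subgroup G} [T.Normal] {hG : Good Q} {eT : T ≃* POmega F (⇑Q)} {H B : Subgroup G}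
  {hI : Ind (eP hG eT)} {v : ι → F}

/-- the stabiliser of a subspace in `G` -/
def stG (hG : Good Q) {eT : T ≃* POmega F (⇑Q)} (hI : Ind (eP hG eT)) (W : Submodule F (ι → F)) : Subgroup G where
  carrier := {g | act hI g W = W}
  mul_mem' := by
    intro a b ha hb
    show act hI (a * b) W = W
    rw [act_mul hG, hb, ha]
  one_mem' := act_one hG hI W
  inv_mem' := by
    intro a ha
    show act hI a⁻¹ W = W
    have h1 : act hI a⁻¹ (act hI a W) = W := by
      rw [← act_mul hG, inv_mul_cancel, act_one hG]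
    have ha' : act hI a W = W := ha
    rwa [ha'] at h1

theorem mem_stG {W : Submodule F (ι → F)} {g : G} : g ∈ stG hG hI W ↔ act hI g W = W := Iff.rfl

/-- **F-D+1, `K = H`** -/
theorem no_alpha_max (hE : Ex T H B) (h0 : ¬ T ≤ B) (hR : ResV hI B v) {p f m r : ℕ} (hp : p.Prime)
    (hF : Nat.card F = p ^ f) (hι : Fintype.card ι = 2 * m) (hm : 4 ≤ m) (hr : r.Prime)
    (hord : orderOf (p : ZMod r) = f * m) (hrH : r ∣ Nat.card (preG eT H)) {N : Subgroup (GL ι F)} (hN : N ≤ preG eT H)
    (hNn : ∀ g ∈ preG eT H, ∀ n ∈ N, g * n * g⁻¹ ∈ N) (hNp : IsPGroup p N) : N = ⊥ := by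
  by_contra hne
  have hf : Fac T B H := (hE.fac h0).symm
  have hLD := ld (hI := hI) (by omega) hf hR hp hF hι hr hord hrH
  have hgd := gd hf hR
  set N' := N.map (glEquiv ι F).toMonoidHom with hN'
  have hNP : NP (preE (eP hG eT) H) p N' := by
    refine ⟨?_, ?_, hNp.map _, ?_⟩
    · rw [← map_preG]
      exact Subgroup.map_mono hN
    · rintro g hg _ ⟨n, hn, rfl⟩
      refine ⟨(glEquiv ι F).symm g * n * ((glEquiv ι F).symm g)⁻¹, hNn _ (mem_preE_iff'.1 hg) n hn, ?_⟩
      show glEquiv ι F ((glEquiv ι F).symm g * n * ((glEquiv ι F).symm g)⁻¹) = g * glEquiv ι F n * g⁻¹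
      rw [map_mul, map_mul, map_inv, MulEquiv.apply_symm_apply]
    · intro h1
      apply hne
      rwa [hN', Subgroup.map_eq_bot_iff_of_injective _ (glEquiv ι F).injective] at h1
  have hinv := inv_W hLD hgd hNP
  have hW := hLD.finrank_fxG hNP
  have hpp := hLD.pp_fxG hNP
  have hsing := hLD.sing_fxG hNP
  -- `H` stabilises `W`
  have hle : H ≤ stG hG hI (fxG N') := by
    intro x hx
    obtain ⟨M, hM⟩ := hI x
    rw [mem_stG, act_of hG hI hM]
    refine Submodule.eq_of_le_of_finrank_eq ?_ (finrank_img M _)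
    rintro _ ⟨w, hw, rfl⟩
    exact hinv M ⟨x, hx, hM.symm⟩ w hw
  have hnt : stG hG hI (fxG N') ≠ ⊤ := by
    intro htop
    obtain ⟨x, y, hxy⟩ := hG.exists_hyp
    obtain ⟨u, hu, hu0⟩ : ∃ u ∈ fxG N', u ≠ 0 := by
      by_contra hcon
      push Not at hcon
      have h1 : fxG N' = ⊥ := (Submodule.eq_bot_iff _).2 hcon
      rw [h1, finrank_bot] at hW
      omega
    have key : ∀ z, Q z = 0 → z ≠ 0 → z ∈ fxG N' := by
      intro z hz hz0
      obtain ⟨g, hg, rfl⟩ := hG.trans_sing (hsing u hu) hz hu0 hz0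
      have h1 : (((eP hG eT).symm (QuotientGroup.mk ⟨g, hg⟩) : T) : G) ∈ stG hG hI (fxG N') := by
        rw [htop]; trivial
      rw [mem_stG, act_T hG hI (x := ⟨g, hg⟩) (by rw [MulEquiv.apply_symm_apply])] at h1
      rw [← h1]
      exact ⟨u, hu, rfl⟩
    have hx := key x hxy.left hxy.left_ne
    have hy := key y hxy.right hxy.right_ne
    rw [← hpp] at hy
    have h1 : polar Q x y = 0 := hy x hx
    rw [hxy.pair] at h1
    exact one_ne_zero h1
  have heq : stG hG hI (fxG N') = H := by
    by_contra hne'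
    exact hnt (hE.max.2 _ (lt_of_le_of_ne hle (Ne.symm hne')))
  obtain ⟨u, w, hu, hw, huQ, huw, hmem⟩ := hLD.exists_siegel_notMem hNP
  apply hmem
  have hsE := siegel_mem_E huQ huw
  rw [mem_preE hsE, ← heq, mem_stG, act_T hG hI (x := ⟨_, hsE⟩) (by rw [MulEquiv.apply_symm_apply])]
  have hfix : ∀ z ∈ fxG N', siegel Q u w huQ huw z = z := by
    intro z hz
    rw [← hpp] at hz
    have h1 : polar Q u z = 0 := hz u hu
    have h2 : polar Q w z = 0 := hz w hw
    rw [siegel_apply, h1, h2]
    simp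
  ext z
  constructor
  · rintro ⟨z, hz, rfl⟩
    show siegel Q u w huQ huw z ∈ _
    rwa [hfix z hz]
  · intro hz
    exact ⟨z, hz, hfix z hz⟩

end Cfsg.Agent.H826.Rg
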